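import Mathlib.RingTheory.GradedAlgebra.Basic
import Mathlib.Algebra.Module.GradedModule
import Mathlib.RingTheory.Ideal.Maximal
import Mathlib.RingTheory.Ideal.Operations

/-! Degree zero components outside a maximal ideal containing all other degrees, and components of
scalar multiples of homogeneous elements of a graded module. -/

open DirectSum

namespace Groth.Agent.GradedPt41

universe u v w x

variable {k : Type u} [Field k] {M : Type v} [AddCommGroup M] [DecidableEq M]
  {A : Type w} [CommRing A] [Algebra k A] (𝒜 : M → Submodule k A) [GradedAlgebra 𝒜]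

theorem sub_decompose_mem {I : Submodule k A} (j : M) (a : A)
    (h : ∀ i, i ≠ j → ((decompose 𝒜 a i : 𝒜 i) : A) ∈ I) : a - decompose 𝒜 a j ∈ I := by
  classical
  have h1 : a - decompose 𝒜 a j =
      ∑ i ∈ (insert j ((decompose 𝒜 a).support)).erase j, ((decompose 𝒜 a i : 𝒜 i) : A) := by
    rw [eq_comm, eq_sub_iff_add_eq, Finset.sum_erase_add _ _ (Finset.mem_insert_self _ _),
      Finset.sum_insert_of_eq_zero_if_notMem]
    · exact DirectSum.sum_support_decompose 𝒜 a
    · intro hj
      rw [DFinsupp.notMem_support_iff.mp hj]; rfl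
  rw [h1]
  exact Submodule.sum_mem _ fun i hi => h i (Finset.ne_of_mem_erase hi)

variable {P : Type x} [AddCommGroup P] [Module A P] [Module k P] [IsScalarTower k A P]
  (ℳ : M → Submodule k P) [Decomposition ℳ] [SetLike.GradedSMul 𝒜 ℳ]

theorem decompose_smul (a : A) {w : M} {x : P} (hx : x ∈ ℳ w) (j : M) :
    ((decompose ℳ (a • x) j : ℳ j) : P) = ((decompose 𝒜 a (j - w) : 𝒜 (j - w)) : A) • x := by
  classical
  induction a using DirectSum.Decomposition.inductionOn 𝒜 with
  | zero => simp
  | @homogeneous i b =>
    have hb : (b : A) • x ∈ ℳ (i + w) := SetLike.GradedSMul.smul_mem b.2 hx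
    by_cases h : i = j - w
    · subst h
      rw [decompose_of_mem_same 𝒜 b.2]
      rw [sub_add_cancel] at hb
      rw [decompose_of_mem_same ℳ hb]
    · rw [decompose_of_mem_ne 𝒜 b.2 h, zero_smul, decompose_of_mem_ne ℳ hb]
      intro h'; exact h (by rw [← h', add_sub_cancel_right])
  | add a b ha hb =>
    rw [add_smul, decompose_add, decompose_add, DirectSum.add_apply, DirectSum.add_apply]
    push_cast
    rw [ha, hb, add_smul]

end Groth.Agent.GradedPt41
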